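import Cfsg.Agent.S2117
import Cfsg.Agent.S3958
import Cfsg.Agent.S3974
import Cfsg.Agent.Known.Laws

/-!
The perfect double covers of `PSL(2, q)`.
-/

set_option autoImplicit false
set_option linter.style.haveILetI false

namespace Cfsg.Lib.GWFour

open Subgroup Matrix
open scoped MatrixGroups

universe u

theorem sl_center_card {F : Type} [Field F] [Fintype F] (hodd : Odd (Fintype.card F)) :
    Nat.card ↥(Subgroup.center SL(2, F)) = 2 := by
  rw [Cfsg.Lib.Classical.card_center_SL, Nat.card_eq_fintype_card, Fintype.card_fin]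
  have h1 := Fintype.one_lt_card (α := F)
  obtain ⟨k, hk⟩ := hodd
  exact Nat.gcd_eq_left ⟨k, by omega⟩

/-- A perfect central extension of `PSL(2, q)` by a group of order two is `SL(2, q)`, for odd `q ≠ 9`. -/
theorem double_cover {Δ : Type u} [Group Δ] [Finite Δ] {F : Type} [Field F] [Fintype F]
    (hodd : Odd (Fintype.card F)) (h5 : 5 ≤ Fintype.card F) (h9 : Fintype.card F ≠ 9)
    (Z : Subgroup Δ) [Z.Normal] (hZc : Z ≤ Subgroup.center Δ) (hZ2 : Nat.card Z = 2)
    (hperf : commutator Δ = ⊤)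
    (e : Δ ⧸ Z ≃* ProjectiveSpecialLinearGroup (Fin 2) F) : Nonempty (Δ ≃* SL(2, F)) := by
  classical
  set σ₀ : SL(2, F) →* Δ ⧸ Z := e.symm.toMonoidHom.comp (QuotientGroup.mk' (Subgroup.center SL(2, F))) with hσ₀
  have hsperf : commutator SL(2, F) = ⊤ := Cfsg.Lib.Known.sl2_commutator_eq_top F (by omega)
  have hker : σ₀.ker = Subgroup.center SL(2, F) := by
    ext x
    rw [hσ₀, MonoidHom.mem_ker, MonoidHom.comp_apply]
    simp
  have hs₀ : Cfsg.IsStemExtension σ₀ :=
    ⟨e.symm.surjective.comp (QuotientGroup.mk'_surjective _), hker.le, hsperf ▸ le_top⟩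
  have h2 : Nat.card σ₀.ker = 2 := by rw [hker]; exact sl_center_card hodd
  have hZA : Nat.card (Multiplicative (ZMod 2)) = 2 := by simp
  haveI : Fact (Nat.Prime 2) := ⟨Nat.prime_two⟩
  let eA : σ₀.ker ≃* Multiplicative (ZMod 2) := mulEquivOfPrimeCardEq h2 hZA
  let σ₁ : ULift.{u} SL(2, F) →* Δ ⧸ Z := σ₀.comp MulEquiv.ulift.toMonoidHom
  have hk₁ : σ₁.ker = σ₀.ker.comap MulEquiv.ulift.toMonoidHom := rfl
  have hperf₁ : commutator (ULift.{u} SL(2, F)) = ⊤ := by
    have h := Subgroup.map_commutator (⊤ : Subgroup SL(2, F)) ⊤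
      (MulEquiv.ulift.{0, u} (α := SL(2, F))).symm.toMonoidHom
    rw [Subgroup.map_top_of_surjective _ (MulEquiv.ulift.{0, u} (α := SL(2, F))).symm.surjective] at h
    rw [_root_.commutator_def, ← h, ← _root_.commutator_def, hsperf,
      Subgroup.map_top_of_surjective _ (MulEquiv.ulift.{0, u} (α := SL(2, F))).symm.surjective]
  have hs₁ : Cfsg.IsStemExtension σ₁ := by
    refine ⟨hs₀.1.comp MulEquiv.ulift.surjective, fun x hx => ?_, hperf₁ ▸ le_top⟩
    refine mem_center_iff.2 fun y => MulEquiv.ulift.injective ?_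
    have hx' : MulEquiv.ulift x ∈ σ₀.ker := hx
    rw [map_mul, map_mul]
    exact mem_center_iff.1 (hs₀.2.1 hx') _
  have hc₁ : Nat.card σ₁.ker = 2 := by
    refine Eq.trans ?_ h2
    exact Nat.card_congr
      { toFun := fun x => ⟨MulEquiv.ulift x.1, x.2⟩
        invFun := fun x => ⟨MulEquiv.ulift.symm x.1, by simp [hk₁]⟩
        left_inv := fun x => Subtype.ext (by simp)
        right_inv := fun x => Subtype.ext (by simp) }
  have hA : Cfsg.HasSchurMultiplier (Δ ⧸ Z) (Multiplicative (ZMod 2)) := by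
    refine ⟨⟨ULift.{u} SL(2, F), inferInstance, inferInstance, σ₁, hs₁, ⟨mulEquivOfPrimeCardEq hc₁ hZA⟩⟩,
      fun Γ _ _ τ hτ => ?_⟩
    obtain ⟨π, hπ⟩ := Cfsg.Agent.S3958.result σ₀ hs₀
      (Cfsg.Agent.S2117.result (F := F) (by omega) h9) Γ τ hτ
    exact ⟨π.comp eA.symm.toMonoidHom, hπ.comp eA.symm.surjective⟩
  have hQ : commutator (Δ ⧸ Z) = ⊤ := by
    rw [_root_.commutator_def, ← Subgroup.map_top_of_surjective (QuotientGroup.mk' Z) (QuotientGroup.mk'_surjective Z),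
      ← Subgroup.map_commutator, ← _root_.commutator_def, hperf]
  have hcop : Nat.Coprime (Nat.card (Abelianization (Δ ⧸ Z))) (Nat.card (Multiplicative (ZMod 2))) := by
    have h1 : Nat.card (Abelianization (Δ ⧸ Z)) = 1 := by
      rw [show Nat.card (Abelianization (Δ ⧸ Z)) = (commutator (Δ ⧸ Z)).index from
        (Subgroup.index_eq_card _).symm, hQ, Subgroup.index_top]
    rw [h1]; exact Nat.coprime_one_left _
  have hs₂ : Cfsg.IsStemExtension (QuotientGroup.mk' Z) :=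
    ⟨QuotientGroup.mk'_surjective Z, (QuotientGroup.ker_mk' Z).le.trans hZc, hperf ▸ le_top⟩
  obtain ⟨f, -⟩ := (Cfsg.Agent.S3974.result hA).2 hcop Δ (ULift.{u} SL(2, F)) (QuotientGroup.mk' Z) σ₁
    hs₂ hs₁ ⟨mulEquivOfPrimeCardEq (by rw [QuotientGroup.ker_mk']; exact hZ2) hZA⟩
    ⟨mulEquivOfPrimeCardEq hc₁ hZA⟩
  exact ⟨f.trans MulEquiv.ulift⟩

end Cfsg.Lib.GWFour
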