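import Cfsg.Agent.GWFour.Consumers.Reduce
import Cfsg.Agent.GWFour.Consumers.DoubleCover
import Cfsg.Agent.CyclicInter.Radical
import Cfsg.Agent.Fusion.CyclicIndexTwoAut
import Cfsg.Agent.Transfer.Frobenius
import Cfsg.Agent.S0201

/-!
Nonsolvable groups with quaternion Sylow 2-subgroups meeting in cyclic groups, from the four-group theorem.
-/

set_option autoImplicit false
set_option linter.unusedSectionVars false
set_option linter.style.haveILetI false

namespace Cfsg.Lib.GWFour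

open Subgroup Matrix Cfsg.Lib.GenDihedral
open scoped MatrixGroups commutatorElement

universe u

variable {G : Type u} [Group G] [Finite G]

theorem centralizes_of_aut_two {V : Subgroup G} (hV : IsPGroup 2 (MulAut ↥V)) {g : G}
    (hg : g ∈ normalizer (V : Set G)) (ho : Odd (orderOf g)) : g ∈ centralizer (V : Set G) := by
  haveI : Fact (Nat.Prime 2) := ⟨Nat.prime_two⟩
  have h1 : orderOf (V.normalizerMonoidHom ⟨g, hg⟩) ∣ orderOf g := by
    rw [← Subgroup.orderOf_mk g hg]; exact orderOf_map_dvd _ _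
  obtain ⟨k, hk⟩ := IsPGroup.iff_orderOf.1 hV (V.normalizerMonoidHom ⟨g, hg⟩)
  have h2 : orderOf (V.normalizerMonoidHom ⟨g, hg⟩) = 1 :=
    Nat.eq_one_of_dvd_coprimes ((Nat.coprime_two_left.2 ho).pow_left k) hk.dvd h1
  refine mem_centralizer_iff.2 fun x hx => ?_
  have h3 : (V.normalizerMonoidHom ⟨g, hg⟩ ⟨x, hx⟩ : G) = x := by rw [orderOf_eq_one_iff.1 h2]; rfl
  exact (mul_inv_eq_iff_eq_mul.1 h3).symm

theorem aut_two_of_cyclic (V : Subgroup G) (hV : IsPGroup 2 ↥V) (hc : IsCyclic ↥V) : IsPGroup 2 (MulAut ↥V) := by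
  haveI := hc
  haveI : Fact (Nat.Prime 2) := ⟨Nat.prime_two⟩
  obtain ⟨k, hk⟩ := hV.exists_card_eq
  refine IsPGroup.of_card (n := k - 1) ?_
  rw [IsCyclic.card_mulAut, hk]
  rcases Nat.eq_zero_or_pos k with rfl | h0
  · simp
  · rw [Nat.totient_prime_pow Nat.prime_two h0]; simp

/-- Quaternion Sylow subgroups meeting in cyclic groups have order eight. -/
theorem quaternion_eight (hns : ¬ Group.IsSolvable G) (S : Sylow 2 G) (n : ℕ)
    (e : ↥(S : Subgroup G) ≃* QuaternionGroup (2 ^ (n + 1))) (hC : Cfsg.Lib.CyclicInter.CycInter G) : n = 0 := by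
  haveI : Fact (Nat.Prime 2) := ⟨Nat.prime_two⟩
  by_contra hn
  refine hns ?_
  have hcomp : Cfsg.HasNormalPComplement 2 G := by
    refine Cfsg.Lib.Transfer.hasNormalPComplement_of_frobenius fun V hV g hg hcop => ?_
    have ho : Odd (orderOf g) := Nat.coprime_two_right.1 hcop
    by_cases hc : IsCyclic ↥V
    · exact centralizes_of_aut_two (aut_two_of_cyclic V hV hc) hg ho
    obtain ⟨P, hP⟩ := hV.exists_le_sylow
    have hgV : ∀ x ∈ V, g⁻¹ * x * g ∈ V := fun x hx => (mem_normalizer_iff'.1 hg (g⁻¹ * x)).2 (by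
      simpa using hx)
    have hP' : V ≤ ((g • P : Sylow 2 G) : Subgroup G) := fun x hx =>
      (Cfsg.Lib.CyclicInter.mem_smul_iff P g x).2 (hP (hgV x hx))
    have heq : g • P = P := by
      by_contra hne
      haveI := hC _ P hne
      exact hc (isCyclic_of_injective (Subgroup.inclusion (le_inf hP' hP)) (Subgroup.inclusion_injective _))
    have hgP : g ∈ normalizer ((P : Subgroup G) : Set G) := by
      rwa [Sylow.smul_eq_iff_mem_normalizer] at heq
    have hA : IsPGroup 2 (MulAut ↥(P : Subgroup G)) :=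
      (Cfsg.Lib.Fusion.isPGroup_mulAut_quaternion (n := n + 1) (by omega)).of_equiv
        (MulAut.congr ((P.equiv S).trans e)).symm
    exact centralizer_le hP (centralizes_of_aut_two hA hgP ho)
  obtain ⟨P, N, hN, hc⟩ := hcomp
  haveI := hN
  have hodd : Odd (Nat.card N) := by
    refine Nat.not_even_iff_odd.1 fun h => P.not_dvd_index ?_
    rw [hc.index_eq_card]; exact h.two_dvd
  have e2 : Nat.card (G ⧸ N) = Nat.card ↥(P : Subgroup G) := by
    rw [← Subgroup.index_eq_card, hc.symm.index_eq_card]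
  refine solvable_ext N (Cfsg.Agent.PF.isSolvable_of_odd _ hodd) ?_
  obtain ⟨k, hk⟩ := P.2.exists_card_eq
  haveI := (IsPGroup.of_card (n := k) (e2.trans hk)).isNilpotent
  infer_instance

theorem quaternion_involution {X : Type*} [Group X] [Finite X] (P : Sylow 2 X)
    (e : ↥(P : Subgroup X) ≃* QuaternionGroup 2) {x y : X} (hx : x ∈ (P : Subgroup X))
    (hy : y ∈ (P : Subgroup X)) (hx2 : orderOf x = 2) (hy2 : orderOf y = 2) : x = y := by
  have key : ∀ a b : QuaternionGroup 2, a * a = 1 → a ≠ 1 → b * b = 1 → b ≠ 1 → a = b := by decide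
  have h : ∀ {w : X} (hw : w ∈ (P : Subgroup X)), orderOf w = 2 →
      e ⟨w, hw⟩ * e ⟨w, hw⟩ = 1 ∧ e ⟨w, hw⟩ ≠ 1 := by
    intro w hw h2
    refine ⟨?_, fun h => ?_⟩
    · rw [← map_mul, ← map_one e]
      exact congrArg e (Subtype.ext (mul_self_of_two h2))
    · have h1 : w = 1 := congrArg Subtype.val (e.injective (h.trans (map_one e).symm))
      rw [h1, orderOf_one] at h2
      omega
  exact congrArg Subtype.val (e.injective (key _ _ (h hx hx2).1 (h hx hx2).2 (h hy hy2).1 (h hy hy2).2))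

/-- The structure of the groups. -/
theorem quaternion_cyclic (hF : FourGroupProp.{u}) (hns : ¬ Group.IsSolvable G)
    (hQ : ∀ S : Sylow 2 G, ∃ n : ℕ, Nonempty (↥(S : Subgroup G) ≃* QuaternionGroup (2 ^ (n + 1))))
    (hC : ∀ S T : Sylow 2 G, S ≠ T → IsCyclic ↥((S : Subgroup G) ⊓ (T : Subgroup G))) :
    (∀ S : Sylow 2 G, Nonempty (↥(S : Subgroup G) ≃* QuaternionGroup 2)) ∧
    ∃ (G₁ : Subgroup G) (_ : G₁.Normal) (_ : ((Cfsg.oddCore G).subgroupOf G₁).Normal),
      Odd G₁.index ∧ Cfsg.oddCore G ≤ G₁ ∧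
      ∃ (F : Type) (_ : Field F) (_ : Fintype F), (Fintype.card F % 8 = 3 ∨ Fintype.card F % 8 = 5) ∧
        3 < Fintype.card F ∧
        Nonempty (↥G₁ ⧸ (Cfsg.oddCore G).subgroupOf G₁ ≃* Matrix.SpecialLinearGroup (Fin 2) F) := by
  haveI : Fact (Nat.Prime 2) := ⟨Nat.prime_two⟩
  have hS : ∀ S : Sylow 2 G, Nonempty (↥(S : Subgroup G) ≃* QuaternionGroup 2) := fun S => by
    obtain ⟨n, ⟨e⟩⟩ := hQ S
    obtain rfl := quaternion_eight hns S n e hC
    exact ⟨e⟩
  refine ⟨hS, ?_⟩
  set O := Cfsg.oddCore G with hOdef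
  have hodd : Odd (Nat.card O) := Nat.coprime_two_right.1 (Cfsg.Lib.Components.coprime_card_pPrimeCore 2)
  set q := QuotientGroup.mk' O with hq
  have hqs : Function.Surjective q := QuotientGroup.mk'_surjective _
  have hCX : Cfsg.Lib.CyclicInter.CycInter (G ⧸ O) :=
    Cfsg.Lib.CyclicInter.cycInter_quotient hC O (Nat.coprime_two_right.2 hodd)
  have hOX : Cfsg.pPrimeCore 2 (G ⧸ O) = ⊥ := Cfsg.Lib.Components.pPrimeCore_quotient_eq_bot
  have hnsX : ¬ Group.IsSolvable (G ⧸ O) :=
    fun h => hns (solvable_ext _ (Cfsg.Agent.PF.isSolvable_of_odd _ hodd) h)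
  obtain ⟨S⟩ : Nonempty (Sylow 2 G) := inferInstance
  obtain ⟨eS⟩ := hS S
  set T : Sylow 2 (G ⧸ O) := S.mapSurjective hqs with hTdef
  have hinj : Function.Injective (q.comp (S : Subgroup G).subtype) := by
    rw [injective_iff_map_eq_one]
    intro x hx
    have hx' : (x : G) ∈ O := (QuotientGroup.eq_one_iff _).1 hx
    obtain ⟨k, hk⟩ := IsPGroup.iff_orderOf.1 S.2 x
    have h1 : orderOf x ∣ Nat.card O := by
      rw [← orderOf_coe]; exact Subgroup.orderOf_dvd_natCard _ hx'
    exact orderOf_eq_one_iff.1 (Nat.eq_one_of_dvd_coprimes ((Nat.coprime_two_left.2 hodd).pow_left k) hk.dvd h1)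
  let eT : ↥(T : Subgroup (G ⧸ O)) ≃* QuaternionGroup 2 :=
    ((MonoidHom.ofInjective hinj).trans (MulEquiv.subgroupCongr (by
      rw [MonoidHom.range_comp, Subgroup.range_subtype]; rfl))).symm.trans eS
  have hO0 : ∀ M : Subgroup (G ⧸ O), M.Normal → Odd (Nat.card M) → M = ⊥ := fun M hM ho => by
    have := @Cfsg.Lib.Components.le_pPrimeCore _ _ 2 M hM (Nat.coprime_two_right.2 ho)
    rw [hOX] at this
    exact le_bot_iff.1 this
  set Z := Subgroup.center (G ⧸ O) with hZdef
  have hZ2 : Nat.card Z = 2 := Cfsg.Agent.S0201.result T 0 eT hO0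
  obtain ⟨z, hzord⟩ := exists_prime_orderOf_dvd_card' (G := Z) 2 (by rw [hZ2])
  have hz2 : orderOf (z : G ⧸ O) = 2 := by rw [orderOf_coe, hzord]
  have hZT : ∀ P : Sylow 2 (G ⧸ O), Z ≤ (P : Subgroup (G ⧸ O)) := fun P x hx =>
    Cfsg.Lib.CyclicInter.mem_of_normal (IsPGroup.of_card (n := 1) (by rw [hZ2, pow_one])) P hx
  have huniq : ∀ x : G ⧸ O, orderOf x = 2 → x = z := by
    intro x hx
    obtain ⟨P, hP⟩ := (IsPGroup.of_card (n := 1) (by rw [Nat.card_zpowers, hx, pow_one]) :
      IsPGroup 2 ↥(zpowers x)).exists_le_sylow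
    exact quaternion_involution P ((P.equiv T).trans eT) (hP (mem_zpowers x)) (hZT P z.2) hx hz2
  have hT8 : Nat.card ↥(T : Subgroup (G ⧸ O)) = 8 := by
    rw [Nat.card_congr eT.toEquiv, Nat.card_eq_fintype_card, QuaternionGroup.card]
  set r := QuotientGroup.mk' Z with hr
  have hrs : Function.Surjective r := QuotientGroup.mk'_surjective _
  set U : Sylow 2 ((G ⧸ O) ⧸ Z) := T.mapSurjective hrs with hUdef
  have h8X : 8 ∣ Nat.card (G ⧸ O) := hT8 ▸ card_subgroup_dvd_card _
  have h16X : ¬ 16 ∣ Nat.card (G ⧸ O) := by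
    rw [← (T : Subgroup (G ⧸ O)).card_mul_index, hT8]
    exact fun h => T.not_dvd_index (Nat.dvd_of_mul_dvd_mul_left (by norm_num : 0 < 8) (show 8 * 2 ∣ _ from h))
  have hcY := Subgroup.card_eq_card_quotient_mul_card_subgroup Z
  rw [hZ2] at hcY
  have hU : IsKleinFour ↥(U : Subgroup ((G ⧸ O) ⧸ Z)) := by
    refine klein_of_sq (sylow_card_of ?_ (fun h => h16X ?_) U) ?_
    · obtain ⟨c, hc⟩ := h8X; exact ⟨c, by omega⟩
    · obtain ⟨c, hc⟩ := h; exact ⟨c, by omega⟩
    rintro ⟨y, x, hx, rfl⟩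
    refine Subtype.ext ?_
    show r x * r x = 1
    rw [← map_mul, hr, QuotientGroup.mk'_apply, QuotientGroup.eq_one_iff]
    have hsq : ∀ a : QuaternionGroup 2, a * a * (a * a) = 1 := by decide
    have h4 : x * x * (x * x) = 1 := by
      have := hsq (eT ⟨x, hx⟩)
      rw [← map_mul, ← map_mul, ← map_one eT] at this
      exact congrArg Subtype.val (eT.injective this)
    rcases two_or_one h4 with h | h
    · rw [h]; exact one_mem _
    · rw [huniq _ h]; exact z.2
  have hOY : NoOdd ((G ⧸ O) ⧸ Z) := by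
    intro M hM ho
    haveI := hM
    have hcard : Nat.card (M.comap r) = Nat.card Z * Nat.card M := Cfsg.Lib.Coprime.card_comap_mk' M
    haveI : Group.IsSolvable ↥(M.comap r) := by
      refine solvable_of_not_four fun h => ?_
      rw [hcard, hZ2] at h
      exact Nat.not_even_iff_odd.2 ho (even_iff_two_dvd.2
        (Nat.dvd_of_mul_dvd_mul_left two_pos (show 2 * 2 ∣ 2 * Nat.card M from h)))
    have hp := Cfsg.Lib.CyclicInter.isPGroup_of_solvable hnsX hCX hOX (M.comap r) inferInstance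
    obtain ⟨k, hk⟩ := hp.exists_card_eq
    rw [hcard, hZ2] at hk
    refine card_eq_one.1 ?_
    rcases k with _ | _ | k
    · omega
    · omega
    · exfalso
      refine Nat.not_even_iff_odd.2 ho ⟨2 ^ k, ?_⟩
      rw [pow_succ, pow_succ] at hk
      omega
  have hnsY : ¬ Group.IsSolvable ((G ⧸ O) ⧸ Z) := fun h =>
    hnsX (solvable_ext Z (Group.isSolvable_of_comm fun a b => Subtype.ext (mem_center_iff.1 b.2 a)) h)
  obtain ⟨L, hLn, hLsimp, hLns, hUL, hLi, -⟩ := minimal_normal U hU hOY hnsY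
  haveI := hLn
  haveI := hLsimp
  obtain ⟨F, i1, i2, h8, h5, ⟨eL⟩⟩ := hF L (U.subtype hUL) (by
    haveI := hU
    have e : (↥((U.subtype hUL : Sylow 2 L) : Subgroup L)) ≃* ↥(U : Subgroup ((G ⧸ O) ⧸ Z)) :=
      subgroupOfEquivOfLe hUL
    exact ⟨by rw [Nat.card_congr e.toEquiv]; exact IsKleinFour.card_four,
      by rw [Monoid.exponent_eq_of_mulEquiv e]; exact IsKleinFour.exponent_two⟩)
  set D := L.comap r with hDdef
  have hZD : Z ≤ D := by
    intro x hx
    rw [hDdef, mem_comap, hr, QuotientGroup.mk'_apply, (QuotientGroup.eq_one_iff x).2 hx]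
    exact one_mem _
  let f : ↥D →* ↥L := r.subgroupComap L
  have hf : Function.Surjective f := fun d => by
    obtain ⟨x, hx⟩ := hrs d.1
    exact ⟨⟨x, by rw [hDdef, mem_comap, hx]; exact d.2⟩, Subtype.ext hx⟩
  set Z' := Z.subgroupOf D with hZ'
  haveI : Z'.Normal := inferInstance
  have hker : f.ker = Z' := by
    ext x
    rw [hZ', mem_subgroupOf, MonoidHom.mem_ker, ← QuotientGroup.eq_one_iff (N := Z)]
    exact ⟨fun h => congrArg Subtype.val h, fun h => Subtype.ext h⟩
  have hLperf : commutator ↥L = ⊤ := by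
    refine ((inferInstance : (commutator ↥L).Normal).eq_bot_or_eq_top).resolve_left fun h => hLns ?_
    refine Group.isSolvable_of_comm fun a b => ?_
    have : ⁅a, b⁆ ∈ commutator ↥L := commutator_mem_commutator (mem_top a) (mem_top b)
    rw [h, mem_bot] at this
    exact commutatorElement_eq_one_iff_mul_comm.1 this
  have hmapc : (commutator ↥D).map f = ⊤ := by
    rw [_root_.commutator_def, Subgroup.map_commutator, Subgroup.map_top_of_surjective _ hf,
      ← _root_.commutator_def, hLperf]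
  have hperf : commutator ↥D = ⊤ := by
    have hzc : (⟨(z : G ⧸ O), hZD z.2⟩ : D) ∈ commutator ↥D := by
      have hev : 2 ∣ Nat.card ↥(commutator ↥D) := by
        have h4L : 4 ∣ Nat.card ↥L := by
          by_contra h; exact hLns (solvable_of_not_four h)
        have hd : Nat.card ↥((commutator ↥D).map f) ∣ Nat.card ↥(commutator ↥D) := card_map_dvd _ _
        rw [hmapc, Nat.card_congr Subgroup.topEquiv.toEquiv] at hd
        exact ((show 2 ∣ 4 by norm_num).trans h4L).trans hd
      obtain ⟨w, hw⟩ := exists_prime_orderOf_dvd_card' 2 hev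
      have h2 : orderOf (((w : D) : G ⧸ O)) = 2 := by rw [orderOf_coe, orderOf_coe, hw]
      have e : (w : D) = ⟨(z : G ⧸ O), hZD z.2⟩ := Subtype.ext (huniq _ h2)
      exact e ▸ w.2
    refine eq_top_iff.2 fun x _ => ?_
    obtain ⟨c, hc, hcx⟩ := hmapc.ge (mem_top (f x))
    have hk : c⁻¹ * x ∈ Z' := by
      rw [← hker, MonoidHom.mem_ker, map_mul, map_inv, hcx, inv_mul_cancel]
    have hin : c⁻¹ * x ∈ commutator ↥D := by
      rw [hZ', mem_subgroupOf] at hk
      by_cases h1 : ((c⁻¹ * x : D) : G ⧸ O) = 1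
      · rw [show c⁻¹ * x = 1 from Subtype.ext h1]; exact one_mem _
      · have h2 : orderOf ((c⁻¹ * x : D) : G ⧸ O) = 2 := by
          rw [← Subgroup.orderOf_mk _ hk]
          refine orderOf_eq_prime ?_ fun h => h1 (congrArg Subtype.val h)
          have h3 := pow_card_eq_one' (x := (⟨((c⁻¹ * x : D) : G ⧸ O), hk⟩ : Z))
          rwa [hZ2] at h3
        rw [show c⁻¹ * x = ⟨(z : G ⧸ O), hZD z.2⟩ from Subtype.ext (huniq _ h2)]
        exact hzc
    have := mul_mem hc hin
    rwa [mul_inv_cancel_left] at this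
  have hZ'c : Z' ≤ Subgroup.center ↥D := fun x hx =>
    mem_center_iff.2 fun y => Subtype.ext (mem_center_iff.1 (mem_subgroupOf.1 hx) (y : G ⧸ O))
  have hZ'2 : Nat.card Z' = 2 := (Nat.card_congr (subgroupOfEquivOfLe hZD).toEquiv).trans hZ2
  obtain ⟨eD⟩ := double_cover (by rcases h8 with h | h <;> exact Nat.odd_iff.2 (by omega)) h5 (by omega)
    Z' hZ'c hZ'2 hperf
    (((QuotientGroup.quotientMulEquivOfEq hker.symm).trans
      (QuotientGroup.quotientKerEquivOfSurjective f hf)).trans eL)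
  haveI : D.Normal := hLn.comap r
  refine ⟨D.comap q, (inferInstance : D.Normal).comap q, inferInstance, ?_, ?_, F, i1, i2, h8, by omega, ?_⟩
  · rw [index_comap_of_surjective _ hqs, hDdef, index_comap_of_surjective _ hrs]; exact hLi
  · intro x hx
    rw [mem_comap, hq, QuotientGroup.mk'_apply, (QuotientGroup.eq_one_iff x).2 hx]
    exact one_mem _
  · let g : ↥(D.comap q) →* ↥D := q.subgroupComap D
    have hg : Function.Surjective g := fun d => by
      obtain ⟨x, hx⟩ := hqs d.1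
      exact ⟨⟨x, by rw [mem_comap, hx]; exact d.2⟩, Subtype.ext hx⟩
    have hkg : g.ker = O.subgroupOf (D.comap q) := by
      ext x
      rw [mem_subgroupOf, MonoidHom.mem_ker, ← QuotientGroup.eq_one_iff (N := O)]
      exact ⟨fun h => congrArg Subtype.val h, fun h => Subtype.ext h⟩
    exact ⟨((QuotientGroup.quotientMulEquivOfEq hkg.symm).trans
      (QuotientGroup.quotientKerEquivOfSurjective g hg)).trans eD⟩

end Cfsg.Lib.GWFour
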