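import Cfsg.Agent.GenDihedral.Red.Tools
import Cfsg.Agent.Classical.Misc.SmallPSL
import Cfsg.Agent.Components.Cores

/-!
Groups with Sylow 2-subgroups of order four and exponent two: the target of the simple case and the
reduction of the general case to it.
-/

set_option autoImplicit false
set_option linter.unusedSectionVars false
set_option linter.style.haveILetI false

namespace Cfsg.Lib.GWFour

open Subgroup Cfsg.Lib.GenDihedral

universe u

/-- `G` is `PSL(2, q)` with `q ≡ 3, 5 (mod 8)`, `q ≥ 5`. -/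
def IsSmallSylowPSL (G : Type u) [Group G] : Prop :=
  ∃ (F : Type) (_ : Field F) (_ : Fintype F),
    (Fintype.card F % 8 = 3 ∨ Fintype.card F % 8 = 5) ∧ 5 ≤ Fintype.card F ∧
      Nonempty (G ≃* Matrix.ProjectiveSpecialLinearGroup (Fin 2) F)

/-- The simple groups with a four-group as Sylow 2-subgroup. -/
def FourGroupProp : Prop :=
  ∀ (G : Type u) [Group G] [Finite G] [IsSimpleGroup G] (S : Sylow 2 G),
    IsKleinFour ↥(S : Subgroup G) → IsSmallSylowPSL G

/-- The same for the groups of order at most `n`. -/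
def FourBelow (n : ℕ) : Prop :=
  ∀ (G : Type u) [Group G] [Finite G] [IsSimpleGroup G] (S : Sylow 2 G),
    IsKleinFour ↥(S : Subgroup G) → Nat.card G ≤ n → IsSmallSylowPSL G

variable {G : Type u} [Group G] [Finite G]

theorem sylow_card_four (S : Sylow 2 G) (hS : IsKleinFour ↥(S : Subgroup G)) :
    4 ∣ Nat.card G ∧ ¬ 8 ∣ Nat.card G := by
  haveI : Fact (Nat.Prime 2) := ⟨Nat.prime_two⟩
  haveI := hS
  have h4 : Nat.card ↥(S : Subgroup G) = 4 := IsKleinFour.card_four
  refine ⟨h4 ▸ card_subgroup_dvd_card _, fun h8 => ?_⟩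
  rw [← (S : Subgroup G).card_mul_index, h4] at h8
  exact S.not_dvd_index (Nat.dvd_of_mul_dvd_mul_left (by norm_num : 0 < 4) (show 4 * 2 ∣ _ from h8))

/-- Recognition: from `PSL(2, q)` with `q` odd to the congruence on `q`. -/
theorem psl_data [IsSimpleGroup G] (S : Sylow 2 G) (hS : IsKleinFour ↥(S : Subgroup G))
    {F : Type} [Field F] [Fintype F] (hodd : Odd (Fintype.card F))
    (e : G ≃* Matrix.ProjectiveSpecialLinearGroup (Fin 2) F) :
    (Fintype.card F % 8 = 3 ∨ Fintype.card F % 8 = 5) ∧ 5 ≤ Fintype.card F := by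
  obtain ⟨q, hq⟩ : ∃ q, Fintype.card F = q := ⟨_, rfl⟩
  have h1 := Fintype.one_lt_card (α := F)
  obtain ⟨h4, h8⟩ := sylow_card_four S hS
  have hc := Cfsg.Lib.Classical.SmallPSL.card_psl hq
  rw [hq] at hodd h1 ⊢
  rw [← Nat.card_congr e.toEquiv, Nat.gcd_eq_left (by obtain ⟨k, rfl⟩ := hodd; exact ⟨k, by omega⟩)] at hc
  have hm : q % 8 = 3 ∨ q % 8 = 5 := by
    by_contra hcon
    obtain ⟨k, hk⟩ := hodd
    obtain ⟨s, hs⟩ : ∃ s, q = 8 * s + 1 ∨ q = 8 * s + 7 := ⟨q / 8, by omega⟩
    apply h8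
    rcases hs with hs | hs
    · refine ⟨q * (4 * s * s + s), ?_⟩
      have : q ^ 2 - 1 = 16 * (4 * s * s + s) := by
        rw [hs, show (8 * s + 1) ^ 2 = 16 * (4 * s * s + s) + 1 by ring, Nat.add_sub_cancel]
      rw [this] at hc
      linarith
    · refine ⟨q * (4 * s * s + 7 * s + 3), ?_⟩
      have : q ^ 2 - 1 = 16 * (4 * s * s + 7 * s + 3) := by
        rw [hs, show (8 * s + 7) ^ 2 = 16 * (4 * s * s + 7 * s + 3) + 1 by ring, Nat.add_sub_cancel]
      rw [this] at hc
      linarith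
  refine ⟨hm, ?_⟩
  by_contra hlt
  have hq3 : q = 3 := by obtain ⟨k, rfl⟩ := hodd; omega
  subst hq3
  have h12 : Nat.card G = 12 := by norm_num at hc; omega
  haveI := solvable_small (G := G) (by omega)
  have hcomm : ∀ a b : G, a * b = b * a := IsSimpleGroup.comm_iff_isSolvable.2 inferInstance
  letI : CommGroup G := { (inferInstance : Group G) with mul_comm := hcomm }
  have hp := IsSimpleGroup.prime_card (α := G)
  rw [h12] at hp
  exact absurd hp (by norm_num)

theorem noTwo_of (h8 : ¬ 8 ∣ Nat.card G) (hns : ¬ Group.IsSolvable G) : NoTwo G := by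
  haveI : Fact (Nat.Prime 2) := ⟨Nat.prime_two⟩
  intro N hN hexp
  haveI := hN
  by_contra hne
  obtain ⟨x, hx, hx1⟩ := N.bot_or_exists_ne_one.resolve_left hne
  have hx2 : orderOf x = 2 := orderOf_eq_prime (by rw [pow_two, hexp x hx]) hx1
  refine hns (solvable_ext N (solvable_of_two fun y => ⟨1, Subtype.ext (by simp [pow_two, hexp _ y.2])⟩)
    (solvable_of_not_four fun h4 => h8 ?_))
  have h2 : 2 ∣ Nat.card ↥N := hx2 ▸ N.orderOf_dvd_natCard hx
  rw [Subgroup.card_eq_card_quotient_mul_card_subgroup N]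
  exact mul_dvd_mul h4 h2

/-- A nonsolvable group with four-group Sylow 2-subgroups and no odd core. -/
theorem minimal_normal (T : Sylow 2 G) (hT : IsKleinFour ↥(T : Subgroup G))
    (hO : NoOdd G) (hns : ¬ Group.IsSolvable G) :
    ∃ L : Subgroup G, L.Normal ∧ IsSimpleGroup ↥L ∧ ¬ Group.IsSolvable ↥L ∧ (T : Subgroup G) ≤ L ∧
      Odd L.index ∧ centralizer (L : Set G) = ⊥ := by
  haveI : Fact (Nat.Prime 2) := ⟨Nat.prime_two⟩
  haveI := hT
  have hT4 : Nat.card ↥(T : Subgroup G) = 4 := IsKleinFour.card_four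
  have hnt := noTwo_of (sylow_card_four T hT).2 hns
  haveI : Nontrivial G := by
    by_contra h
    haveI := not_nontrivial_iff_subsingleton.1 h
    exact hns inferInstance
  obtain ⟨L, -, hLn, hLb, hmin⟩ :=
    Cfsg.Lib.Coprime.exists_minimal_normal (K := (⊤ : Subgroup G)) inferInstance top_ne_bot
  haveI := hLn
  have hLs : ¬ Group.IsSolvable L := fun h => hLb (rad_bot hO hnt hLn h)
  have hTL : (T : Subgroup G) ≤ L := by
    obtain ⟨k, -, hk, -, -⟩ := card_inf_sylow T L
    have hle : Nat.card ((T : Subgroup G) ⊓ L : Subgroup G) ∣ 4 := hT4 ▸ card_dvd_of_le inf_le_left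
    have h2 : ¬ Nat.card ((T : Subgroup G) ⊓ L : Subgroup G) ≤ 2 := fun h => hLs (solvable_of_small_inf T L h)
    have h4 : Nat.card ((T : Subgroup G) ⊓ L : Subgroup G) = 4 := by
      obtain ⟨j, hj, hj'⟩ := (Nat.dvd_prime_pow Nat.prime_two).1 (show _ ∣ 2 ^ 2 from hle)
      interval_cases j <;> omega
    exact (Subgroup.eq_of_le_of_card_ge inf_le_left (by rw [h4, hT4])).ge.trans inf_le_right
  obtain ⟨w, hw, hw1⟩ := (T : Subgroup G).bot_or_exists_ne_one.resolve_left fun e => by
    rw [e, card_bot] at hT4; omega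
  set P : Sylow 2 L := T.subtype hTL with hPdef
  haveI hP : IsKleinFour ↥(P : Subgroup L) := by
    have e : (↥(P : Subgroup L)) ≃* ↥(T : Subgroup G) := subgroupOfEquivOfLe hTL
    exact ⟨by rw [Nat.card_congr e.toEquiv, hT4],
      by rw [Monoid.exponent_eq_of_mulEquiv e]; exact IsKleinFour.exponent_two⟩
  have hntL := noTwo_of (sylow_card_four P hP).2 hLs
  have hsimp : IsSimpleGroup L := by
    refine simple_of_common hLb hmin (w := ⟨w, hTL hw⟩) (fun e => hw1 (congrArg Subtype.val e))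
      fun N hN hNb => ?_
    haveI := hN
    by_contra hwN
    refine hNb (rad_bot (noOdd_sub hO L) hntL hN (solvable_of_small_inf P N ?_))
    have hlt : Nat.card ((P : Subgroup L) ⊓ N : Subgroup L) < 4 := by
      have h4 : Nat.card ↥(P : Subgroup L) = 4 := IsKleinFour.card_four
      refine h4 ▸ lt_of_le_of_ne (card_le_of_le inf_le_left) fun e => hwN ?_
      exact ((Subgroup.eq_of_le_of_card_ge inf_le_left e.ge).ge
        (show (⟨w, hTL hw⟩ : L) ∈ (P : Subgroup L) from hw)).2
    obtain ⟨j, hj⟩ := IsPGroup.iff_card.1 (P.2.to_le (inf_le_left : (P : Subgroup L) ⊓ N ≤ P))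
    rw [hj] at hlt ⊢
    have hj2 : j < 2 := by
      by_contra h
      exact absurd hlt (not_lt.2 ((Nat.pow_le_pow_right two_pos (not_lt.1 h))))
    interval_cases j <;> norm_num
  refine ⟨L, hLn, hsimp, hLs, hTL, ?_, ?_⟩
  · exact Nat.not_even_iff_odd.1 fun h => T.not_dvd_index
      (h.two_dvd.trans (index_dvd_of_le hTL))
  · haveI := hsimp
    have hC : (centralizer (L : Set G)).Normal := inferInstance
    have hCL : centralizer (L : Set G) ⊓ L = ⊥ := by
      have hn : ((centralizer (L : Set G)).subgroupOf L).Normal := inferInstance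
      rcases hn.eq_bot_or_eq_top with h | h
      · rw [subgroupOf_eq_bot, disjoint_iff] at h; exact h
      · exfalso
        rw [subgroupOf_eq_top] at h
        exact hLs (Group.isSolvable_of_comm fun a b =>
          Subtype.ext (mem_centralizer_iff.1 (h b.2) a a.2))
    obtain ⟨k, m, hk, hm, hcard⟩ := card_inf_sylow T (centralizer (L : Set G))
    have hbot : (T : Subgroup G) ⊓ centralizer (L : Set G) = ⊥ :=
      le_bot_iff.1 (hCL ▸ le_inf inf_le_right (inf_le_left.trans hTL))
    rw [hbot, card_bot] at hk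
    refine hO _ hC ?_
    rw [hcard, ← hk, one_mul]
    exact hm

/-- The general structure theorem: over the odd core a group with four-group Sylow 2-subgroups is
solvable or almost simple with socle `PSL(2, q)` and odd index. -/
theorem almost_simple_of (hF : FourBelow.{u} (Nat.card G)) (S : Sylow 2 G) (hS : IsKleinFour ↥(S : Subgroup G))
    (hns : ¬ Group.IsSolvable G) :
    ∃ (F : Type) (_ : Field F) (_ : Fintype F),
      (Fintype.card F % 8 = 3 ∨ Fintype.card F % 8 = 5) ∧ 5 ≤ Fintype.card F ∧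
      ∃ N : Subgroup (G ⧸ Cfsg.oddCore G), N.Normal ∧ Odd N.index ∧
        Nonempty (↥N ≃* Matrix.ProjectiveSpecialLinearGroup (Fin 2) F) ∧
        centralizer (N : Set (G ⧸ Cfsg.oddCore G)) = ⊥ := by
  haveI : Fact (Nat.Prime 2) := ⟨Nat.prime_two⟩
  haveI := hS
  have hodd : Odd (Nat.card (Cfsg.oddCore G)) :=
    Nat.coprime_two_right.1 (Cfsg.Lib.Components.coprime_card_pPrimeCore 2)
  set π := QuotientGroup.mk' (Cfsg.oddCore G) with hπ
  have hsur : Function.Surjective π := QuotientGroup.mk'_surjective _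
  set T : Sylow 2 (G ⧸ Cfsg.oddCore G) := S.mapSurjective hsur with hTdef
  have hinj : Function.Injective (π.comp (S : Subgroup G).subtype) := by
    rw [injective_iff_map_eq_one]
    intro x hx
    have hx' : (x : G) ∈ Cfsg.oddCore G := (QuotientGroup.eq_one_iff _).1 hx
    have h2 : orderOf x ∣ 2 := orderOf_dvd_of_pow_eq_one (by
      have h := Monoid.pow_exponent_eq_one x
      rwa [IsKleinFour.exponent_two] at h)
    have h1 : orderOf x ∣ Nat.card (Cfsg.oddCore G) := by
      rw [← orderOf_coe]; exact Subgroup.orderOf_dvd_natCard _ hx'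
    exact orderOf_eq_one_iff.1 (Nat.eq_one_of_dvd_coprimes (Nat.coprime_two_left.2 hodd) h2 h1)
  have hT : IsKleinFour ↥(T : Subgroup (G ⧸ Cfsg.oddCore G)) := by
    have e : ↥(S : Subgroup G) ≃* ↥(T : Subgroup (G ⧸ Cfsg.oddCore G)) :=
      (MonoidHom.ofInjective hinj).trans (MulEquiv.subgroupCongr (by
        rw [MonoidHom.range_comp, Subgroup.range_subtype]; rfl))
    exact ⟨by rw [← Nat.card_congr e.toEquiv]; exact IsKleinFour.card_four,
      by rw [← Monoid.exponent_eq_of_mulEquiv e]; exact IsKleinFour.exponent_two⟩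
  have hO : NoOdd (G ⧸ Cfsg.oddCore G) := fun M hM ho => by
    have := @Cfsg.Lib.Components.le_pPrimeCore _ _ 2 M hM (Nat.coprime_two_right.2 ho)
    rw [Cfsg.Lib.Components.pPrimeCore_quotient_eq_bot] at this
    exact le_bot_iff.1 this
  obtain ⟨L, hLn, hLsimp, -, hTL, hLi, hLc⟩ := minimal_normal T hT hO
    fun h => hns (solvable_ext _ (Cfsg.Agent.PF.isSolvable_of_odd _ hodd) h)
  haveI := hLsimp
  obtain ⟨F, i1, i2, h8, h5, he⟩ := hF L (T.subtype hTL) (by
    haveI := hT
    have e : (↥((T.subtype hTL : Sylow 2 L) : Subgroup L)) ≃* ↥(T : Subgroup (G ⧸ Cfsg.oddCore G)) :=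
      subgroupOfEquivOfLe hTL
    exact ⟨by rw [Nat.card_congr e.toEquiv]; exact IsKleinFour.card_four,
      by rw [Monoid.exponent_eq_of_mulEquiv e]; exact IsKleinFour.exponent_two⟩)
    ((card_le_card_group L).trans
      (Nat.le_of_dvd Nat.card_pos (Subgroup.card_quotient_dvd_card _)))
  exact ⟨F, i1, i2, h8, h5, L, hLn, hLi, he, hLc⟩

theorem FourGroupProp.below (hF : FourGroupProp.{u}) (n : ℕ) : FourBelow.{u} n :=
  fun G _ _ _ S hS _ => hF G S hS

/-- The general structure theorem from the simple case. -/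
theorem almost_simple (hF : FourGroupProp.{u}) (S : Sylow 2 G) (hS : IsKleinFour ↥(S : Subgroup G))
    (hns : ¬ Group.IsSolvable G) :
    ∃ (F : Type) (_ : Field F) (_ : Fintype F),
      (Fintype.card F % 8 = 3 ∨ Fintype.card F % 8 = 5) ∧ 5 ≤ Fintype.card F ∧
      ∃ N : Subgroup (G ⧸ Cfsg.oddCore G), N.Normal ∧ Odd N.index ∧
        Nonempty (↥N ≃* Matrix.ProjectiveSpecialLinearGroup (Fin 2) F) ∧
        centralizer (N : Set (G ⧸ Cfsg.oddCore G)) = ⊥ :=
  almost_simple_of (hF.below _) S hS hns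

end Cfsg.Lib.GWFour
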