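import Cfsg.Agent.GWFour.Consumers.Target
import Cfsg.Agent.FourGroupGW.Setting
import Cfsg.Agent.Coprime.Fitting
import Cfsg.Agent.LocalThree.HallJankoType.SecondInvol

/-!
The reduction of the four-group theorem to a minimal simple configuration.
-/

set_option autoImplicit false
set_option linter.unusedSectionVars false
set_option linter.style.haveILetI false

namespace Cfsg.Lib.GWFour

open Subgroup Cfsg.Lib.GenDihedral

universe u

variable {G : Type u} [Group G] [Finite G]

theorem klein_of_sq {H : Type*} [Group H] (h4 : Nat.card H = 4) (hsq : ∀ x : H, x * x = 1) : IsKleinFour H := by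
  haveI : Finite H := Nat.finite_of_card_ne_zero (by omega)
  haveI : Nontrivial H := Finite.one_lt_card_iff_nontrivial.1 (by omega)
  exact ⟨h4, Monoid.exponent_eq_prime_iff Nat.prime_two |>.2 fun x hx =>
    orderOf_eq_prime (by rw [pow_two]; exact hsq x) hx⟩

theorem klein_of_card {H : Type*} [Group H] [Finite H] (h4 : Nat.card H = 4) (hnc : ¬ IsCyclic H) :
    IsKleinFour H := by
  refine klein_of_sq h4 fun x => ?_
  by_contra h
  have hd : orderOf x ∣ 2 ^ 2 := by rw [show (2 : ℕ) ^ 2 = 4 from rfl, ← h4]; exact orderOf_dvd_natCard x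
  obtain ⟨j, hj, hj'⟩ := (Nat.dvd_prime_pow Nat.prime_two).1 hd
  interval_cases j
  · exact h (by rw [orderOf_eq_one_iff.1 hj', one_mul])
  · exact h (by rw [← pow_two]; exact orderOf_dvd_iff_pow_eq_one.1 (by rw [hj', pow_one]))
  · exact hnc (isCyclic_of_orderOf_eq_card x (by rw [hj', h4]; rfl))

theorem sq_of_klein {H : Type*} [Group H] [IsKleinFour H] (x : H) : x * x = 1 := by
  have h := Monoid.pow_exponent_eq_one x
  rwa [IsKleinFour.exponent_two, pow_two] at h

theorem comm_of_klein {H : Type*} [Group H] [IsKleinFour H] (x y : H) : x * y = y * x := by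
  rw [← inv_eq_of_mul_eq_one_left (sq_of_klein (x * y)), _root_.mul_inv_rev,
    inv_eq_of_mul_eq_one_left (sq_of_klein x), inv_eq_of_mul_eq_one_left (sq_of_klein y)]

theorem sylow_card_of (h4 : 4 ∣ Nat.card G) (h8 : ¬ 8 ∣ Nat.card G) (P : Sylow 2 G) :
    Nat.card ↥(P : Subgroup G) = 4 := by
  haveI : Fact (Nat.Prime 2) := ⟨Nat.prime_two⟩
  obtain ⟨k, hk⟩ := IsPGroup.iff_card.1 P.2
  have hk2 : k ≤ 2 := by
    by_contra h
    exact h8 (((pow_dvd_pow 2 (show 3 ≤ k by omega)).trans hk.symm.dvd).trans (card_subgroup_dvd_card _))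
  have h := (P : Subgroup G).card_mul_index
  have hi := P.not_dvd_index
  rw [hk] at h ⊢
  interval_cases k
  · exfalso; rw [pow_zero, one_mul] at h; exact hi (h ▸ (by norm_num : 2 ∣ 4).trans h4)
  · exfalso
    rw [pow_one] at h
    obtain ⟨c, hc⟩ := h4
    exact hi ⟨c, by omega⟩
  · rfl

/-- A solvable group with four-group Sylow 2-subgroups and no odd core has order four or is `A₄`. -/
theorem solvable_shape (T : Sylow 2 G) (hT : IsKleinFour ↥(T : Subgroup G)) (hO : NoOdd G)
    (hs : Group.IsSolvable G) : Nat.card G = 4 ∨ Nonempty (G ≃* alternatingGroup (Fin 4)) := by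
  haveI : Fact (Nat.Prime 2) := ⟨Nat.prime_two⟩
  haveI := hT
  haveI := hs
  have hT4 : Nat.card ↥(T : Subgroup G) = 4 := IsKleinFour.card_four
  have hO' : Cfsg.pPrimeCore 2 G = ⊥ := hO _
    (Cfsg.Lib.Components.normal_of_mem_sSup_normal fun _ h => h.1)
    (Nat.coprime_two_right.1 (Cfsg.Lib.Components.coprime_card_pPrimeCore 2))
  have hC := Cfsg.Lib.Coprime.centralizer_pCore_le (G := G) 2 hO'
  have hle := Cfsg.Lib.Coprime.pCore_le_sylow (G := G) 2 T
  set P := Cfsg.pCore 2 G with hP
  haveI hPn : P.Normal := (Cfsg.Lib.Components.pCore_normal_and_isPGroup 2).1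
  have hdvd : Nat.card P ∣ 2 ^ 2 := by rw [show (2 : ℕ) ^ 2 = 4 from rfl, ← hT4]; exact card_dvd_of_le hle
  obtain ⟨j, hj, hj'⟩ := (Nat.dvd_prime_pow Nat.prime_two).1 hdvd
  have hPT : P = (T : Subgroup G) := by
    refine Subgroup.eq_of_le_of_card_ge hle ?_
    by_contra hlt
    have hcen : centralizer (P : Set G) = ⊤ := by
      interval_cases j
      · rw [card_eq_one.1 (by rw [hj']; rfl : Nat.card P = 1), eq_top_iff]
        intro g _
        exact mem_centralizer_iff.2 fun x hx => by
          rw [Set.mem_singleton_iff.1 hx, one_mul, mul_one]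
      · haveI : Nontrivial P := Finite.one_lt_card_iff_nontrivial.1 (by rw [hj']; norm_num)
        obtain ⟨a, ha⟩ := exists_ne (1 : P)
        refine eq_top_iff.2 fun g _ => mem_centralizer_iff.2 fun x hx => ?_
        have huniq : ∀ y : P, y ≠ 1 → y = a := fun y hy => by
          by_contra hya
          have h3 : ({1, a, y} : Set P).ncard = 3 := Set.ncard_eq_three.2
            ⟨1, a, y, ha.symm, hy.symm, Ne.symm hya, rfl⟩
          have := Set.ncard_le_card ({1, a, y} : Set P)
          omega
        by_cases hx1 : x = 1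
        · rw [hx1, one_mul, mul_one]
        · have e1 := huniq ⟨x, hx⟩ (fun e => hx1 (congrArg Subtype.val e))
          have e2 := huniq ⟨g * x * g⁻¹, hPn.conj_mem x hx g⟩ (fun e => hx1 (by
            have := congrArg Subtype.val e; exact conj_eq_one_iff.1 this))
          have := congrArg Subtype.val (e2.trans e1.symm)
          exact (mul_inv_eq_iff_eq_mul.1 this).symm
      · exact absurd hj'.ge (by omega)
    have htop : P = ⊤ := top_le_iff.1 (hcen ▸ hC)
    have h1 := card_le_of_le (le_top : (T : Subgroup G) ≤ ⊤)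
    rw [← htop] at h1
    omega
  haveI : (T : Subgroup G).Normal := hPT ▸ hPn
  have hCT : centralizer ((T : Subgroup G) : Set G) = (T : Subgroup G) := by
    refine le_antisymm (hPT ▸ hC) fun x hx => mem_centralizer_iff.2 fun y hy => ?_
    exact congrArg Subtype.val (comm_of_klein (⟨y, hy⟩ : ↥(T : Subgroup G)) ⟨x, hx⟩)
  set φ : G →* MulAut ↥(T : Subgroup G) := MulAut.conjNormal with hφ
  have hker : φ.ker = (T : Subgroup G) := by
    refine Eq.trans ?_ hCT
    ext g
    rw [MonoidHom.mem_ker, mem_centralizer_iff]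
    constructor
    · intro h x hx
      have := congrArg Subtype.val (DFunLike.congr_fun h ⟨x, hx⟩)
      rw [hφ, MulAut.conjNormal_apply] at this
      exact (mul_inv_eq_iff_eq_mul.1 this).symm
    · intro h
      ext x
      rw [hφ, MulAut.conjNormal_apply]
      exact mul_inv_eq_iff_eq_mul.2 (h x x.2).symm
  have hidx : (T : Subgroup G).index ∣ 24 := by
    rw [← hker, Subgroup.index_ker]
    have h24 : Nat.card (Equiv.Perm ↥(T : Subgroup G)) = 24 := by rw [Nat.card_perm, hT4]; rfl
    rw [← h24]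
    let ψ : MulAut ↥(T : Subgroup G) →* Equiv.Perm ↥(T : Subgroup G) :=
      { toFun := fun a => a.toEquiv, map_one' := rfl, map_mul' := fun _ _ => rfl }
    have hψ : Function.Injective ψ := fun a b e => MulEquiv.ext fun x => Equiv.congr_fun e x
    exact (card_subgroup_dvd_card φ.range).trans (card_dvd_of_injective ψ hψ)
  have hodd : Odd (T : Subgroup G).index := Nat.not_even_iff_odd.1 fun h => T.not_dvd_index h.two_dvd
  have hcard := (T : Subgroup G).card_mul_index
  rw [hT4] at hcard
  obtain ⟨r, hr⟩ := hodd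
  have h13 : (T : Subgroup G).index = 1 ∨ (T : Subgroup G).index = 3 := by
    have := Nat.le_of_dvd (by norm_num) hidx
    interval_cases h : (T : Subgroup G).index <;> omega
  rcases h13 with h1 | h3
  · left; rw [← hcard, h1]
  right
  obtain ⟨t, ht, ht1⟩ := (T : Subgroup G).bot_or_exists_ne_one.resolve_left fun e => by
    rw [e, card_bot] at hT4; omega
  obtain ⟨e⟩ := Cfsg.Lib.HallJankoType.alt_four_equiv (A := (⊤ : Subgroup G)) (W := (T : Subgroup G))
    (by rw [Nat.card_congr Subgroup.topEquiv.toEquiv, ← hcard, h3]) hT4 le_top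
    (fun g _ x hx => (inferInstance : (T : Subgroup G).Normal).conj_mem x hx g) (t := t) ht
    (fun g _ hg => by
      have hg3 : g ^ 3 ∈ (T : Subgroup G) := h3 ▸ pow_index_mem (H := (T : Subgroup G)) g
      have hg2 : g ^ 2 ∈ centralizer ((T : Subgroup G) : Set G) := by
        refine mem_centralizer_iff.2 fun x hx => ?_
        have hinv : ∀ y ∈ (T : Subgroup G), y * y = 1 := fun y hy =>
          congrArg Subtype.val (sq_of_klein (⟨y, hy⟩ : ↥(T : Subgroup G)))
        have key : g ^ 2 * x * (g ^ 2)⁻¹ = x := by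
          rw [show g ^ 2 * x * (g ^ 2)⁻¹ = g * (g * x * g⁻¹) * g⁻¹ by rw [pow_two, _root_.mul_inv_rev]; simp only [mul_assoc]]
          by_cases hx1 : x = 1
          · rw [hx1, mul_one, mul_inv_cancel, mul_one, mul_inv_cancel]
          by_cases hxt : x = t
          · rw [hxt, hg, hg]
          have hgx := (inferInstance : (T : Subgroup G).Normal).conj_mem x hx g
          have hne1 : g * x * g⁻¹ ≠ 1 := fun e => hx1 (conj_eq_one_iff.1 e)
          have hnet : g * x * g⁻¹ ≠ t := fun e => hxt (mul_left_cancel (mul_right_cancel (e.trans hg.symm)))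
          have hcases : g * x * g⁻¹ = x ∨ g * x * g⁻¹ = x * t := by
            set U := ↥(T : Subgroup G)
            have := IsKleinFour.eq_mul_of_ne_all (G := U) (x := ⟨x, hx⟩) (y := ⟨t, ht⟩) (z := ⟨g * x * g⁻¹, hgx⟩)
              (fun e => hx1 (congrArg Subtype.val e)) (fun e => ht1 (congrArg Subtype.val e))
              (fun e => hxt (congrArg Subtype.val e)) (fun e => hne1 (congrArg Subtype.val e))
            by_cases hgxx : g * x * g⁻¹ = x
            · exact Or.inl hgxx
            · exact Or.inr (congrArg Subtype.val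
                (this (fun e => hgxx (congrArg Subtype.val e)) (fun e => hnet (congrArg Subtype.val e))))
          rcases hcases with e | e
          · rw [e, e]
          · rw [e, show g * (x * t) * g⁻¹ = (g * x * g⁻¹) * (g * t * g⁻¹) by group, e, hg, mul_assoc, hinv t ht, mul_one]
        exact (mul_inv_eq_iff_eq_mul.1 key).symm
      rw [hCT] at hg2
      have h := mul_mem (inv_mem hg2) hg3
      rwa [show (g ^ 2)⁻¹ * g ^ 3 = g by group] at h)
  exact ⟨Subgroup.topEquiv.symm.trans e⟩

/-- The shape of a group with four-group Sylow 2-subgroups, from the simple case. -/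
theorem fourShape (hF : FourBelow.{u} (Nat.card G)) (S : Sylow 2 G) (hS : IsKleinFour ↥(S : Subgroup G)) :
    Cfsg.Lib.GW.FourShape G := by
  by_cases hs : Group.IsSolvable G
  · haveI : Fact (Nat.Prime 2) := ⟨Nat.prime_two⟩
    haveI := hS
    haveI := hs
    obtain ⟨h4, h8⟩ := sylow_card_four S hS
    have hodd : Odd (Nat.card (Cfsg.oddCore G)) :=
      Nat.coprime_two_right.1 (Cfsg.Lib.Components.coprime_card_pPrimeCore 2)
    have hq := Subgroup.card_eq_card_quotient_mul_card_subgroup (Cfsg.oddCore G)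
    have h4' : 4 ∣ Nat.card (G ⧸ Cfsg.oddCore G) := by
      refine (Nat.Coprime.dvd_mul_right ?_).1 (hq ▸ h4)
      exact (Nat.coprime_two_left.2 hodd).pow_left 2
    have h8' : ¬ 8 ∣ Nat.card (G ⧸ Cfsg.oddCore G) := fun h => h8 (hq ▸ h.mul_right _)
    obtain ⟨T⟩ : Nonempty (Sylow 2 (G ⧸ Cfsg.oddCore G)) := inferInstance
    have hmap := (S.mapSurjective (QuotientGroup.mk'_surjective (Cfsg.oddCore G)))
    have hT : IsKleinFour ↥((S.mapSurjective (QuotientGroup.mk'_surjective (Cfsg.oddCore G)) :
        Sylow 2 (G ⧸ Cfsg.oddCore G)) : Subgroup (G ⧸ Cfsg.oddCore G)) := by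
      refine klein_of_sq (sylow_card_of h4' h8' _) ?_
      rintro ⟨y, x, hx, rfl⟩
      refine Subtype.ext ?_
      show QuotientGroup.mk' _ x * QuotientGroup.mk' _ x = 1
      rw [← map_mul, show x * x = 1 from congrArg Subtype.val (sq_of_klein (⟨x, hx⟩ : ↥(S : Subgroup G))),
        map_one]
    have hO : NoOdd (G ⧸ Cfsg.oddCore G) := fun M hM ho => by
      have := @Cfsg.Lib.Components.le_pPrimeCore _ _ 2 M hM (Nat.coprime_two_right.2 ho)
      rw [Cfsg.Lib.Components.pPrimeCore_quotient_eq_bot] at this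
      exact le_bot_iff.1 this
    rcases solvable_shape _ hT hO inferInstance with h | h
    · exact Or.inl h
    · exact Or.inr (Or.inl h)
  · obtain ⟨F, i1, i2, h8, h5, N, h⟩ := almost_simple_of hF S hS hs
    exact Or.inr (Or.inr ⟨F, i1, i2, h8, h5, N, h⟩)

/-- A proper subgroup of a minimal configuration and its simple sections. -/
theorem minimal_of (hG : IsSimpleGroup G) (S : Sylow 2 G) (hS : IsKleinFour ↥(S : Subgroup G))
    (hF : ∀ m : ℕ, m < Nat.card G → FourBelow.{u} m) : Cfsg.Lib.GW.Minimal G := by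
  haveI : Fact (Nat.Prime 2) := ⟨Nat.prime_two⟩
  haveI := hG
  haveI := hS
  obtain ⟨h4, h8⟩ := sylow_card_four S hS
  have hna : ¬ IsMulCommutative G := fun h => by
    letI : CommGroup G := { (inferInstance : Group G) with mul_comm := fun a b => h.is_comm.comm a b }
    have hp := IsSimpleGroup.prime_card (α := G)
    obtain ⟨c, hc⟩ := h4
    exact (Nat.not_prime_mul (a := 2) (b := 2 * c) (by norm_num) (by omega)) (by convert hp using 1; omega)
  have key : ∀ H : Subgroup G, H ≠ ⊤ → 4 ∣ Nat.card H →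
      ∃ P : Sylow 2 H, IsKleinFour ↥(P : Subgroup H) := by
    intro H _ h4H
    obtain ⟨P⟩ : Nonempty (Sylow 2 H) := inferInstance
    refine ⟨P, klein_of_sq (sylow_card_of h4H (fun h => h8 (h.trans (card_subgroup_dvd_card H))) P) ?_⟩
    intro x
    obtain ⟨Q, hQ⟩ := (P.2.map H.subtype).exists_le_sylow
    obtain ⟨g, hg⟩ := MulAction.exists_smul_eq G Q S
    have hx : ((x : H) : G) ∈ (Q : Subgroup G) := hQ ⟨x, x.2, rfl⟩
    have hx' : g * ((x : H) : G) * g⁻¹ ∈ (S : Subgroup G) := by
      rw [← hg]; exact ⟨_, hx, rfl⟩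
    have h := congrArg Subtype.val (sq_of_klein (⟨_, hx'⟩ : ↥(S : Subgroup G)))
    refine Subtype.ext (Subtype.ext ?_)
    have h' : g * ((x : H) : G) * g⁻¹ * (g * ((x : H) : G) * g⁻¹) = 1 := h
    rw [conj_mul, conj_eq_one_iff] at h'
    exact h'
  refine ⟨hG, hna, fun P => sylow_card_of h4 h8 P, fun H hH h4H => ?_, fun H hH K N hN hs hnc => ?_⟩
  · obtain ⟨P, hP⟩ := key H hH h4H
    refine fourShape (hF _ ?_) P hP
    exact lt_of_le_of_ne (card_le_card_group H) fun e => hH (Subgroup.eq_top_of_card_eq H e)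
  · haveI := hs
    have hd : Nat.card (↥K ⧸ N) ∣ Nat.card H :=
      (Subgroup.card_quotient_dvd_card N).trans (card_subgroup_dvd_card K)
    have hns : ¬ Group.IsSolvable (↥K ⧸ N) := fun h =>
      hnc ⟨⟨IsSimpleGroup.comm_iff_isSolvable.2 h⟩⟩
    have h4X : 4 ∣ Nat.card (↥K ⧸ N) := by
      by_contra h; exact hns (solvable_of_not_four h)
    obtain ⟨P⟩ : Nonempty (Sylow 2 (↥K ⧸ N)) := inferInstance
    have hP := klein_of_card (sylow_card_of h4X
      (fun h => h8 ((h.trans hd).trans (card_subgroup_dvd_card H))) P)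
      (fun hc => hns (Cfsg.Lib.CyclicInter.solvable_of_cyclic P hc))
    have hlt : Nat.card H < Nat.card G :=
      lt_of_le_of_ne (card_le_card_group H) fun e => hH (Subgroup.eq_top_of_card_eq H e)
    obtain ⟨F, i1, i2, -, h5, he⟩ :=
      hF _ hlt (↥K ⧸ N) P hP (Nat.le_of_dvd Nat.card_pos hd)
    exact Or.inr (Or.inr (Or.inl ⟨F, i1, i2, 2, le_rfl, fun _ => by omega, he⟩))

/-- The four-group theorem from the minimal configuration. -/
theorem fourGroupProp_of_minimal
    (h : ∀ (G : Type u) [Group G] [Finite G], Cfsg.Lib.GW.Minimal G →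
      ∃ (F : Type) (_ : Field F) (_ : Fintype F), Odd (Fintype.card F) ∧
        Nonempty (G ≃* Matrix.ProjectiveSpecialLinearGroup (Fin 2) F)) : FourGroupProp.{u} := by
  have key : ∀ n : ℕ, FourBelow.{u} n := by
    intro n
    induction n using Nat.strong_induction_on with
    | _ n IH =>
      intro G _ _ _ S hS hle
      obtain ⟨F, i1, i2, hodd, ⟨e⟩⟩ := h G (minimal_of ‹_› S hS fun m hm => IH m (by omega))
      obtain ⟨h8, h5⟩ := psl_data S hS hodd e
      exact ⟨F, i1, i2, h8, h5, ⟨e⟩⟩
  exact fun G _ _ _ S hS => key (Nat.card G) G S hS le_rfl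

end Cfsg.Lib.GWFour
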